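import Mathlib
import Cfsg.Prelude.Def_GeometricClasses
import Cfsg.Agent.Lib.Helper27.ASC.Defs

/-!
# Project ASCU (leader: lead) : maximal subgroups of `SU_r(q)`, `r ≥ 7` prime  -- S5811 (r = 7), S5856 (r = 11)

Shared vocabulary (on top of `Cfsg.Agent.Lib.Helper27.ASC` Defs).
-/

set_option autoImplicit false

namespace Cfsg.Agent.Lib.Lead.ASCU

open Cfsg Cfsg.Geo Cfsg.Agent.Lib.Helper27.ASC
open scoped MatrixGroups Matrix

variable {n : ℕ} {F : Type*} [Field F]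

/-- `SU_n(q)` inside `GL_n(F)`, `|F| = q²`. -/
abbrev SUg (n : ℕ) (F : Type*) [Field F] (q : ℕ) : Subgroup (GL (Fin n) F) :=
  GU n F q ⊓ specialLinear (Fin n) F

/-- `B` realises the matrices of `P` over `F₀`: all `B s B⁻¹`, `s ∈ P`, have their entries in `F₀`. -/
def RealisesOver (F₀ : Subfield F) (B : GL (Fin n) F) (P : Subgroup (GL (Fin n) F)) : Prop :=
  ∀ s ∈ matrixSet P, ∀ i j,
    ((B : Matrix (Fin n) (Fin n) F) * s * ((B⁻¹ : GL (Fin n) F) : Matrix (Fin n) (Fin n) F)) i j ∈ F₀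

theorem realisesOver_mono {F₀ F₁ : Subfield F} (h : F₀ ≤ F₁) {B : GL (Fin n) F}
    {P : Subgroup (GL (Fin n) F)} (hB : RealisesOver F₀ B P) : RealisesOver F₁ B P :=
  fun s hs i j => h (hB s hs i j)

/-- membership in `GU` unfolded -/
theorem mem_GU_iff (q : ℕ) (g : GL (Fin n) F) :
    g ∈ GU n F q ↔ ∀ u v, hermForm n F q ((g : Matrix (Fin n) (Fin n) F) *ᵥ u)
      ((g : Matrix (Fin n) (Fin n) F) *ᵥ v) = hermForm n F q u v :=
  Iff.rfl

theorem gu_le_similarity (q : ℕ) : GU n F q ≤ similarityGroup (hermForm n F q) := by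
  intro g hg
  refine ⟨1, fun u v => ?_⟩
  have := hg u v
  simpa using this

end Cfsg.Agent.Lib.Lead.ASCU
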