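import Mathlib
import Cfsg.Prelude.Def_GeometricClasses
import Cfsg.Agent.Lib.helper23.ASCSCHURA
import Cfsg.Agent.Lib.Helper18.ASCSCHURB
import Cfsg.Agent.Lib.helper8.ASCSCHURC
import Cfsg.Agent.Lib.helper8.ASCSCHURN
import Cfsg.Agent.Lib.Helper10.ASCIRRNS
import Cfsg.Agent.Lib.Helper1.ASCES1
import Cfsg.Agent.Lib.Helper1.ASCES2
import Cfsg.Agent.Lib.Helper21.ASCES3
import Cfsg.Agent.Lib.Helper1.ASCES4
import Cfsg.Agent.Lib.Helper11.ASCSIMPLE
import Cfsg.Agent.Lib.Helper25.ASCCENT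
import Cfsg.Agent.Lib.Helper10.ASCSUBF2
import Cfsg.Agent.Lib.Helper18.ASCNOSYMP
import Cfsg.Agent.Lib.Helper21.ASCUURED
import Cfsg.Agent.Lib.Helper21.ASCUUPR1
import Cfsg.Agent.Lib.Helper19.ASCUUCLIFFS
import Cfsg.Agent.Lib.Helper19.ASCUUARITH
import Cfsg.Agent.Lib.Helper18.ASCUUFRAME
import Cfsg.Agent.Lib.Helper18.ASCUUPR3
import Cfsg.Agent.Lib.Helper19.ASCUUPR2
import Cfsg.Agent.Lib.helper23.ASCUUADJ
import Cfsg.Agent.Lib.helper6.ASCUUPR6
import Cfsg.Agent.Lib.helper8.ASCUUSUBFO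
import Cfsg.Agent.Lib.helper8.ASCUUSUBF2
import Cfsg.Agent.Lib.Helper26.ASCUUPR5
import Cfsg.Agent.Lib.Helper26.ASCUUQF
import Cfsg.Agent.Lib.Helper27.ASCUUES6
import Cfsg.Agent.Lib.Helper16.ASCUUSUBFA

set_option autoImplicit false
set_option linter.unusedVariables false

namespace Cfsg.Agent.Lib.Lead.ASCU

open Cfsg Cfsg.Geo Cfsg.Agent.Lib.Helper27.ASC
open scoped MatrixGroups Matrix

variable {F : Type*} [Field F] [Fintype F]

/-- The generic conclusion for a prime `r ≥ 5`. -/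
def ConclU (r : ℕ) (F : Type*) [Field F] [Fintype F] (q : ℕ) (H : Subgroup (GL (Fin r) F)) : Prop :=
  (∃ W : Submodule F (Fin r → F), W ≠ ⊥ ∧ IsTotallySingularFor (hermForm r F q) W ∧
    H = subspaceStabilizer W ⊓ SUg r F q) ∨
  (∃ W : Submodule F (Fin r → F), W ≠ ⊥ ∧ IsNondegenerateOn (hermForm r F q) W ∧ 2 * Module.finrank F W < r ∧
    H = subspaceStabilizer W ⊓ SUg r F q) ∨
  (∃ D : Fin r → Submodule F (Fin r → F), IsNondegenerateMDecomposition (hermForm r F q) 1 D ∧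
    H = decompositionStabilizer D ⊓ SUg r F q) ∨
  (∃ K : Subalgebra F (Matrix (Fin r) (Fin r) F), IsFieldSubalgebra r K ∧ IsAdjointClosedFor (hermForm r F q) K ∧
    H = subalgebraNormalizer K ⊓ SUg r F q) ∨
  (∃ (F₀ : Subfield F) (ℓ : ℕ) (P : GL (Fin r) F), ℓ.Prime ∧ Odd ℓ ∧ Fintype.card F = Nat.card F₀ ^ ℓ ∧
    IsFormRationalStructure (hermForm r F q) F₀ 1 P ∧ H = subfieldSubgroup F₀ P ⊓ SUg r F q) ∨
  (Odd q ∧ ∃ (F₀ : Subfield F) (P : GL (Fin r) F), Fintype.card F = Nat.card F₀ ^ 2 ∧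
    IsFormRationalStructure (hermForm r F q) F₀ 1 P ∧ H = subfieldSubgroup F₀ P ⊓ SUg r F q) ∨
  (∃ (p e : ℕ) (R : Subgroup (GL (Fin r) F)), r ≠ p ∧ IsMinimalFieldFor r p e F ∧ IsSymplecticTypeGroup r R ∧
    ActsAbsolutelyIrreducibly (matrixSet R) ∧ R ≤ GU r F q ∧ Nat.card R = r ^ 3 ∧
    Nat.card (Subgroup.center R) = r ∧ H = subgroupNormalizer R ⊓ SUg r F q) ∨
  InUnitaryResidualClass H

/-- a subfield of prime index is proper -/
theorem ne_top_of_card_pow' {F₁ : Subfield F} {ℓ : ℕ} (hℓ : ℓ.Prime) (h : Fintype.card F = Nat.card F₁ ^ ℓ) :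
    F₁ ≠ ⊤ := by
  rintro rfl
  have h1 : Nat.card (⊤ : Subfield F) = Fintype.card F := by
    rw [← Nat.card_eq_fintype_card]
    exact Nat.card_congr (Subfield.topEquiv (K := F)).toEquiv
  rw [h1] at h
  have h2 : 1 < Fintype.card F := Fintype.one_lt_card
  have h3 : 2 ≤ ℓ := hℓ.two_le
  have : Fintype.card F ^ 1 < Fintype.card F ^ ℓ := Nat.pow_lt_pow_right h2 (by omega)
  rw [pow_one] at this
  omega

theorem normalIn_le_normalizer' {n : ℕ} {N H : Subgroup (GL (Fin n) F)} (hN : NormalIn N H) :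
    H ≤ subgroupNormalizer N := by
  intro h hh
  unfold subgroupNormalizer
  rw [Subgroup.mem_normalizer_iff]
  intro x
  constructor
  · intro hx; exact hN.2 h hh x hx
  · intro hx
    have := hN.2 h⁻¹ (H.inv_mem hh) _ hx
    simpa [mul_assoc] using this

/-- the subfield alternatives, from a realisation of `N` over a proper subfield -/
theorem conclu_subfield {r : ℕ} (hr3 : 3 ≤ r) (hodd : Odd r) (q : ℕ) (hF : Fintype.card F = q ^ 2)
    {H N : Subgroup (GL (Fin r) F)} (hH : IsMaximalIn (SUg r F q) H) (hNn : NormalIn N H) (hA : AbsIrr N)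
    (F₀ : Subfield F) (h0 : F₀ ≠ ⊤) (hR : RealisableOver F₀ (matrixSet N)) : ConclU r F q H := by
  have hHU : H ≤ GU r F q := hH.1.le.trans inf_le_left
  have hNU : N ≤ GU r F q := hNn.1.trans hHU
  obtain ⟨B, hB0⟩ := hR
  obtain ⟨F₁, ℓ, h01, hℓ, hcard⟩ := exists_prime_index_subfield F₀ h0
  have h1 : F₁ ≠ ⊤ := ne_top_of_card_pow' hℓ hcard
  have hB : RealisesOver F₁ B N := realisesOver_mono h01 hB0
  have hle : H ≤ subfieldSubgroup F₁ B⁻¹ := usubfield_explicit hNn hA F₁ B hB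
  rcases hℓ.eq_two_or_odd' with h2 | hoddl
  · subst h2
    obtain ⟨hq, hrat⟩ := uform_rational_two q hF hodd hr3 hNU hA F₁ hcard B hB
    exact Or.inr (Or.inr (Or.inr (Or.inr (Or.inr (Or.inl ⟨hq, F₁, B⁻¹, hcard, hrat,
      max_principle hH hle (upr_subfield q hF hr3 F₁ h1 B⁻¹)⟩)))))
  · obtain ⟨B', hsame, hrat⟩ := uform_rational_odd q hF hNU hA F₁ ℓ hℓ hoddl hcard B hB
    rw [← hsame] at hle
    exact Or.inr (Or.inr (Or.inr (Or.inr (Or.inl ⟨F₁, ℓ, B', hℓ, hoddl, hcard, hrat,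
      max_principle hH hle (upr_subfield q hF hr3 F₁ h1 B')⟩))))

theorem ascu_prime {r : ℕ} (hr : r.Prime) (hr5 : 5 ≤ r) (q : ℕ) (hF : Fintype.card F = q ^ 2)
    (H : Subgroup (GL (Fin r) F)) (hH : IsMaximalIn (SUg r F q) H) : ConclU r F q H := by
  have hr2 : r ≠ 2 := by omega
  have hr3 : 3 ≤ r := by omega
  have hodd : Odd r := hr.odd_of_ne_two hr2
  have hHS : H ≤ SUg r F q := hH.1.le
  have hHU : H ≤ GU r F q := hHS.trans inf_le_left
  have hHSL : H ≤ specialLinear (Fin r) F := hHS.trans inf_le_right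
  by_cases hirr : Irr H
  swap
  · -- Stage A
    rcases ured_case q hF hodd H hHU hirr with ⟨W, h0, h1, hts, hW⟩ | ⟨W, h0, h1, hnd, hdim, hW⟩
    · exact Or.inl ⟨W, h0, hts, max_principle hH hW (upr_subspace q hF hr3 W h0 h1)⟩
    · exact Or.inr (Or.inl ⟨W, h0, hnd, hdim, max_principle hH hW (upr_subspace q hF hr3 W h0 h1)⟩)
  by_cases hB : ∃ N : Subgroup (GL (Fin r) F), NormalIn N H ∧ ¬ Irr N ∧ ¬ N ≤ scalars (Fin r) F
  · -- Stage B
    obtain ⟨N, hN, h1, h2⟩ := hB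
    obtain ⟨D, χ, hD, hHD, hχ, hne⟩ := clifford_lines_strong hr hirr hN h1 h2
    have hND := uframe_of_lines hr hr2 q hF hHU hirr hN D χ hD hHD hχ hne
    exact Or.inr (Or.inr (Or.inl ⟨D, hND, max_principle hH hHD (upr_dec q hF hr3 D hND)⟩))
  push_neg at hB
  by_cases hC : ∃ N : Subgroup (GL (Fin r) F), NormalIn N H ∧ Irr N ∧ ¬ AbsIrr N
  · -- Stage C
    obtain ⟨N, hN, h1, h2⟩ := hC
    have hK : IsFieldSubalgebra r (centAlg N) := by
      obtain ⟨hc, hi⟩ := schur_comm_inv (by omega) h1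
      have hKd : IsFieldSubalgebra (Module.finrank F (centAlg N)) (centAlg N) := ⟨hc, hi, rfl⟩
      have hdvd := field_finrank_dvd (by omega) _ hKd
      rcases (Nat.dvd_prime hr).mp hdvd with hd | hd
      · exact absurd (absIrr_of_finrank_one h1 hd) h2
      · exact ⟨hc, hi, hd⟩
    have hHK := normalizes_cent hN
    have hadj := ucent_adjoint_closed q hF (hN.1.trans hHU)
    exact Or.inr (Or.inr (Or.inr (Or.inl ⟨centAlg N, hK, hadj,
      max_principle hH hHK (upr_field q hF hr3 (by omega) _ hK)⟩)))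
  push_neg at hC
  -- Stage D
  have hD : AllNormalAbsIrr H := fun N hN => by
    by_cases h : Irr N
    · right; exact hC N hN h
    · left; exact hB N hN h
  obtain ⟨N, hNmin⟩ := exists_minNonscalar H (irr_not_scalar (by omega) hirr)
  have hNn : NormalIn N H := hNmin.1
  have hNU : N ≤ GU r F q := hNn.1.trans hHU
  have hA : AbsIrr N := (hD N hNn).resolve_left hNmin.2.1
  have hcomm := commutator_normalIn hNn
  rcases hNmin.2.2 _ hcomm (Subgroup.commutator_le_self N) with hab | hperf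
  · -- D1 : Heisenberg
    obtain ⟨x, y, ω, hd⟩ := heis_exists hr hr2 hHSL hD hNmin hab
    rcases uheis_field_cases hr hr2 q hF hd hNU with ⟨p, e, hrp, hmin⟩ | ⟨F₀, ℓ, hℓ, hoddl, hcard, hω⟩
    · -- class 6
      obtain ⟨hpg, hexp, hcard, hcen⟩ := heis_group hr hr2 hd
      have hR : IsSymplecticTypeGroup r N := by
        refine ⟨hr, hpg, heis_char_cyclic hr hD hNn hcen, ?_⟩
        rw [hexp]
        have : Nat.gcd 2 r = 1 := by
          rw [Nat.coprime_comm.mp ((Nat.coprime_primes hr Nat.prime_two).mpr hr2)]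
        rw [this, mul_one]
      have hc3 : Nat.card N = r ^ 3 := by rw [hcard]
      exact Or.inr (Or.inr (Or.inr (Or.inr (Or.inr (Or.inr (Or.inl ⟨p, e, N, hrp, hmin, hR, hA, hNU, hc3, hcen,
        max_principle hH (normalIn_le_normalizer' hNn)
          (upr_sympl_type hr (by omega) q hF N hNU hA hc3 hcen ⟨ω, hd.hω1, hd.hωr⟩)⟩))))))
    · -- subfield
      exact conclu_subfield hr3 hodd q hF hH hNn hA F₀ (ne_top_of_card_pow' hℓ hcard)
        (heis_realisable hr hd F₀ hω)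
  · -- D2 : almost simple
    by_cases hsub : ∃ F₀ : Subfield F, F₀ ≠ ⊤ ∧ RealisableOver F₀ (matrixSet N)
    · obtain ⟨F₀, h0, hR⟩ := hsub
      exact conclu_subfield hr3 hodd q hF hH hNn hA F₀ h0 hR
    · -- residual
      obtain ⟨hsimp, hnab⟩ := perfect_case_simple hr hD hNmin hperf
      refine Or.inr (Or.inr (Or.inr (Or.inr (Or.inr (Or.inr (Or.inr ⟨N, ⟨hNn.1, hNn.2, hperf, hsimp, hnab,
        centralizer_scalar_of hNn hperf hA, hA, ?_⟩, ?_, ?_⟩))))))
      · intro F₀ h0 hR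
        exact hsub ⟨F₀, h0, hR⟩
      · rintro ⟨Q, hQ, hfix⟩
        exact hsub (urealisable_of_quad q hF hodd hNU hA Q hQ hfix)
      · rintro ⟨f, hf, -⟩
        exact no_symplectic_odd hodd f hf

end Cfsg.Agent.Lib.Lead.ASCU
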